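import Cfsg.Agent.Lib.AbelianSylow.TwoTrans.Growth
import Cfsg.Agent.Lib.AbelianSylow.ReeCount
import Cfsg.Agent.Lib.AbelianSylow.Cent.FieldBorel

/-!
# The doubly transitive action in the Ree case (owner: helper17)

* `Setup.exists_point` : the point stabiliser `H = P (⟨t⟩ × T)` with all its data
* `exists_reeCount`    : the `ReeCount` witness from `JTData` and the order
* `exists_borelTwo`    : the `Field.BorelTwo` witness
* `exists_twoTrans`    : `H` is transitive on the other cosets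
-/

set_option autoImplicit false
set_option linter.unusedSectionVars false
set_option linter.style.haveILetI false

namespace Cfsg.Agent.AbelianSylow.TwoTrans

open Subgroup Cfsg.Agent.AbelianSylow.Local

universe u

variable {G : Type u} [Group G] [Finite G] {F : Type} [Field F] [Fintype F]

/-- A point stabiliser with a regular normal subgroup on the other points. -/
structure Point (t : G) (H P D : Subgroup G) (w : G) (q : ℕ) : Prop where
  q8 : q % 8 = 3
  invol : orderOf t = 2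
  card_cent : Nat.card (centralizer ({t} : Set G)) = q * (q ^ 2 - 1)
  t_mem : t ∈ D
  P_le : P ≤ H
  D_le : D ≤ H
  normal : H ≤ normalizer (P : Set G)
  card_P : Nat.card P = q ^ 3
  card_D : Nat.card D = q - 1
  card_H : Nat.card H = q ^ 3 * (q - 1)
  comm : ∀ a ∈ D, ∀ b ∈ D, a * b = b * a
  index : H.index = q ^ 3 + 1
  semireg : ∀ g : G, g ∉ H → ∀ p ∈ P, g⁻¹ * p * g ∈ H → p = 1
  w_not : w ∉ H
  w_mul : w * w = 1
  w_inv : ∀ d ∈ D, w * d * w⁻¹ = d⁻¹
  cent_H : Nat.card (H ⊓ centralizer ({t} : Set G) : Subgroup G) = q * (q - 1)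
  proper : H ≠ ⊤
  ti : ∀ g : G, g ∉ H → ∀ x ∈ P, g * x * g⁻¹ ∈ P → x = 1
  cover : ∀ g : G, g ∉ H → ∃ p ∈ P, ∃ h ∈ H, g = p * w * h

theorem mem_of_pow_eq_one {H P : Subgroup G} {a b : ℕ} (hle : P ≤ H)
    (hn : H ≤ normalizer (P : Set G)) (hP : Nat.card P = a) (hH : Nat.card H = a * b)
    (hab : a.Coprime b) {x : G} (hx : x ∈ H) (ho : x ^ a = 1) : x ∈ P := by
  haveI : (P.subgroupOf H).Normal := normal_subgroupOf_of_le_normalizer hn
  have hidx : (P.subgroupOf H).index = b := by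
    have h1 := (P.subgroupOf H).card_mul_index
    rw [Nat.card_congr (subgroupOfEquivOfLe hle).toEquiv, hP, hH] at h1
    exact Nat.eq_of_mul_eq_mul_left (hP ▸ Nat.card_pos) h1
  have h2 := Subgroup.pow_index_mem (P.subgroupOf H) (⟨x, hx⟩ : ↥H)
  rw [hidx, mem_subgroupOf, SubmonoidClass.coe_pow] at h2
  have hg : x ^ Nat.gcd a b ∈ P := by
    rw [← zpow_natCast, Nat.gcd_eq_gcd_ab, zpow_add, zpow_mul, zpow_mul, zpow_natCast, zpow_natCast,
      ho, one_zpow, one_mul]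
    exact P.zpow_mem h2 _
  rwa [hab.gcd_eq_one, pow_one] at hg

variable {t : G} {L U B T : Subgroup G} {n : ℕ} (h : Setup t F L U B T n)
include h

theorem Setup.exists_point
    (hG : Nat.card G = (3 ^ n) ^ 3 * ((3 ^ n) ^ 3 + 1) * (3 ^ n - 1)) :
    ∃ (H P : Subgroup G) (w : G), Point t H P (zpowers t ⊔ T) w (3 ^ n) := by
  obtain ⟨P, hP, hcP⟩ := h.exists_big hG
  obtain ⟨w, hwL, hww, hw1, hwT⟩ := h.borel.inv
  set D := zpowers t ⊔ T
  set H := P ⊔ D
  have hcH : Nat.card H = (3 ^ n) ^ 3 * (3 ^ n - 1) := hcP ▸ h.card_PH0 hP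
  have hHn : H ≤ normalizer (P : Set G) := sup_le le_normalizer hP.2.2
  have hq : 3 ≤ 3 ^ n := by simpa using Nat.pow_le_pow_right (show 0 < 3 by norm_num) h.n_pos
  have hq3 : 0 < (3 ^ n) ^ 3 := pow_pos (by omega) 3
  have hHpos : 0 < Nat.card H := Nat.card_pos
  have hcop : ((3 ^ n) ^ 3).Coprime (3 ^ n - 1) := by
    refine Nat.Coprime.pow_left 3 ?_
    conv_lhs => rw [← Nat.sub_add_cancel (show 1 ≤ 3 ^ n by omega)]
    simp
  have hBT : B = U ⊔ T := by
    refine (eq_of_le_of_card_ge (sup_le h.borel.leU h.borel.leT) ?_).symm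
    have hc := PLocal.card_sup_mul_card_inf (H := U) (K := T) (le_normalizer_of_conj fun a ha x hx =>
      h.borel.norm a (h.borel.leT ha) x hx)
    have hi : U ⊓ T = ⊥ := le_bot_iff.1 fun x hx => by
      have := h.inf_H0 h.isPGroup_U
      rw [← this]
      exact ⟨hx.1, mem_sup_right hx.2⟩
    rw [hi, card_bot, mul_one, h.borel.cardU] at hc
    have h1 := h.borel.cardB
    rw [← h.borel.cardT, mul_left_comm, ← hc] at h1
    omega
  have hBtH : zpowers t ⊔ B ≤ H := sup_le (le_sup_left.trans le_sup_right)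
    (hBT ▸ sup_le (hP.1.trans le_sup_left) (le_sup_right.trans le_sup_right))
  have hHC : H ⊓ centralizer ({t} : Set G) = zpowers t ⊔ B := le_antisymm
    (fun x hx => h.normalizer_cent hP.1 hP.2.1 (hHn hx.1) (mem_centralizer_singleton_iff.1 hx.2))
    (le_inf hBtH (sup_le ((zpowers_le).2 (mem_centralizer_singleton_iff.2 rfl)) fun x hx =>
      mem_centralizer_singleton_iff.2 (h.comm_L (h.borel.le hx)).eq))
  have hwt : Commute w t := h.comm_L hwL
  have hwB : w ∉ B := fun hb =>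
    hw1 (PSL2.eq_one_of_sq (h.odd_B.of_dvd_nat (B.orderOf_dvd_natCard hb)) hww)
  have hwne : t ≠ w := fun e => h.lfac.ctx.htE (e ▸ hwL)
  have hwH : w ∉ H := fun hw => by
    rcases h.invol_Bt (hHC.le ⟨hw, mem_centralizer_singleton_iff.2 hwt.eq⟩) hww with e | e
    exacts [hw1 e, hwne e.symm]
  have hwinv : ∀ d ∈ D, w * d * w⁻¹ = d⁻¹ := by
    intro d hd
    obtain ⟨a, ha, b, hb, rfl⟩ :=
      exists_mul_of_mem_sup (h.le_normalizer_zpowers (h.borel.leT.trans h.borel.le)) hd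
    have hab := h.H0_comm a (mem_sup_left ha) b (mem_sup_right hb)
    obtain ⟨i, rfl⟩ := mem_zpowers_iff.1 ha
    have hai : (t ^ i)⁻¹ = t ^ i := by rw [← inv_zpow, inv_eq_of_mul_eq_one_right h.tt]
    calc w * (t ^ i * b) * w⁻¹ = w * t ^ i * w⁻¹ * (w * b * w⁻¹) := by group
      _ = t ^ i * b⁻¹ := by rw [(hwt.zpow_right i).eq, mul_inv_cancel_right, hwT b hb]
      _ = (t ^ i * b)⁻¹ := by rw [hab, mul_inv_rev, hai]
  -- `P` meets its conjugate under `w` trivially
  have hwi : w⁻¹ = w := inv_eq_of_mul_eq_one_right hww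
  have hD : ∀ x ∈ P, w * x * w⁻¹ ∈ P → x = 1 := by
    set Dw : Subgroup G := P ⊓ P.map (MulAut.conj w).toMonoidHom
    have hmem : ∀ {x : G}, x ∈ Dw ↔ x ∈ P ∧ w * x * w⁻¹ ∈ P := by
      intro x
      refine ⟨fun ⟨h1, ⟨y, hy, e⟩⟩ => ⟨h1, ?_⟩, fun ⟨h1, h2⟩ => ⟨h1, ⟨_, h2, ?_⟩⟩⟩
      · subst e
        show w * (w * y * w⁻¹) * w⁻¹ ∈ P
        rwa [hwi, show w * (w * y * w) * w = (w * w) * y * (w * w) by group, hww, one_mul, mul_one]
      · show w * (w * x * w⁻¹) * w⁻¹ = x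
        rw [hwi, show w * (w * x * w) * w = (w * w) * x * (w * w) by group, hww, one_mul, mul_one]
    have htn : t ∈ normalizer (P : Set G) := hP.2.2 (mem_sup_left (mem_zpowers t))
    have hDw : Dw = ⊥ := by
      refine h.eq_bot_of_pair (hP.2.1.to_le inf_le_left) (a := t) (s := w) h.lfac.data.invol
        (orderOf_eq_prime (by rw [pow_two, hww]) hw1) hwne hwt.symm ?_ ?_ fun x hx hxt => ?_
      · refine (le_normalizer_of_conj (A := zpowers t) fun a ha x hx => ?_) (mem_zpowers t)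
        obtain ⟨i, rfl⟩ := mem_zpowers_iff.1 ha
        obtain ⟨h1, h2⟩ := hmem.1 hx
        have hn := (normalizer (P : Set G)).zpow_mem htn i
        refine hmem.2 ⟨(mem_normalizer_iff.1 hn x).1 h1, ?_⟩
        rw [show w * (t ^ i * x * (t ^ i)⁻¹) * w⁻¹ = (w * t ^ i) * x * (w * t ^ i)⁻¹ by group,
          (hwt.zpow_right i).eq,
          show t ^ i * w * x * (t ^ i * w)⁻¹ = t ^ i * (w * x * w⁻¹) * (t ^ i)⁻¹ by group]
        exact (mem_normalizer_iff.1 hn _).1 h2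
      · refine (le_normalizer_of_conj (A := zpowers w) fun a ha x hx => ?_) (mem_zpowers w)
        obtain ⟨i, rfl⟩ := mem_zpowers_iff.1 ha
        have hi : w ^ i = 1 ∨ w ^ i = w := by
          rcases Int.even_or_odd i with ⟨k, rfl⟩ | ⟨k, rfl⟩
          · left; rw [← two_mul, zpow_mul, zpow_two, hww, one_zpow]
          · right; rw [zpow_add, zpow_mul, zpow_two, hww, one_zpow, one_mul, zpow_one]
        obtain ⟨h1, h2⟩ := hmem.1 hx
        rcases hi with e | e <;> rw [e]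
        · simpa using hx
        · refine hmem.2 ⟨h2, ?_⟩
          rwa [hwi, show w * (w * x * w) * w = (w * w) * x * (w * w) by group, hww, one_mul, mul_one]
      · obtain ⟨h1, h2⟩ := hmem.1 hx
        have hxU : x ∈ U := (h.inf_cent hP.1 hP.2.1).le ⟨h1, mem_centralizer_singleton_iff.2 hxt.eq⟩
        refine h.borel.disj w hwL hwB x hxU ((h.inf_cent hP.1 hP.2.1).le ⟨h2, ?_⟩)
        exact mem_centralizer_singleton_iff.2 ((hwt.mul_left hxt).mul_left hwt.inv_left).eq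
    exact fun x h1 h2 => by
      have := hmem.2 ⟨h1, h2⟩
      rwa [hDw, mem_bot] at this
  have hmemP : ∀ {x : G}, x ∈ H → x ^ (3 ^ n) ^ 3 = 1 → x ∈ P := fun hx ho =>
    mem_of_pow_eq_one le_sup_left hHn hcP hcH hcop hx ho
  have hpow : ∀ {x : G}, x ∈ P → ∀ g : G, (g * x * g⁻¹) ^ (3 ^ n) ^ 3 = 1 := fun {x} hx g => by
    have h1 : x ^ (3 ^ n) ^ 3 = 1 := by
      rw [← hcP]; exact congrArg Subtype.val (pow_card_eq_one' (x := (⟨x, hx⟩ : ↥P)))
    rw [conj_pow, h1, mul_one, mul_inv_cancel]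
  -- `G = H ∪ P w H`
  have hcover : ∀ g : G, g ∉ H → ∃ p ∈ P, ∃ k ∈ H, g = p * w * k := by
    let f : ↥P × ↥H → {g : G // g ∉ H} := fun x => ⟨(x.1 : G) * w * (x.2 : G), fun hin => hwH (by
      have := mul_mem (mul_mem (inv_mem (le_sup_left (a := P) (b := D) x.1.2)) hin) (inv_mem x.2.2)
      simpa [mul_assoc] using this)⟩
    have hinj : Function.Injective f := by
      rintro ⟨⟨p, hp⟩, ⟨k, hk⟩⟩ ⟨⟨p', hp'⟩, ⟨k', hk'⟩⟩ e
      have e' : p * w * k = p' * w * k' := congrArg Subtype.val e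
      have e2 : w * (p'⁻¹ * p) * w⁻¹ = k' * k⁻¹ := by
        rw [hwi]
        calc w * (p'⁻¹ * p) * w = w * p'⁻¹ * (p * w * k) * k⁻¹ := by group
          _ = w * p'⁻¹ * (p' * w * k') * k⁻¹ := by rw [e']
          _ = (w * w) * (k' * k⁻¹) := by group
          _ = k' * k⁻¹ := by rw [hww, one_mul]
      have hpp : p'⁻¹ * p = 1 := hD _ (mul_mem (inv_mem hp') hp)
        (hmemP (e2 ▸ mul_mem hk' (inv_mem hk)) (hpow (mul_mem (inv_mem hp') hp) w))
      have hkk : k' * k⁻¹ = 1 := by rw [← e2, hpp, mul_one, mul_inv_cancel]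
      have e3 : p = p' := (inv_mul_eq_one.1 hpp).symm
      have e4 : k = k' := (mul_inv_eq_one.1 hkk).symm
      subst e3 e4
      rfl
    have hcard : Nat.card {g : G // g ∉ H} ≤ Nat.card (↥P × ↥H) := by
      classical
      have hsum : Nat.card ↥H + Nat.card {g : G // g ∉ H} = Nat.card G := by
        rw [← Nat.card_sum]
        exact Nat.card_congr (Equiv.sumCompl (fun g : G => g ∈ H))
      rw [Nat.card_prod, hcP, hcH]
      rw [hG, hcH] at hsum
      have hexp : (3 ^ n) ^ 3 * ((3 ^ n) ^ 3 + 1) * (3 ^ n - 1) =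
          (3 ^ n) ^ 3 * ((3 ^ n) ^ 3 * (3 ^ n - 1)) + (3 ^ n) ^ 3 * (3 ^ n - 1) := by ring
      omega
    intro g hg
    obtain ⟨⟨p, k⟩, hpk⟩ := (hinj.bijective_of_nat_card_le hcard).2 ⟨g, hg⟩
    exact ⟨p, p.2, k, k.2, (congrArg Subtype.val hpk).symm⟩
  have hti : ∀ g : G, g ∉ H → ∀ x ∈ P, g * x * g⁻¹ ∈ P → x = 1 := by
    intro g hg x hx hgx
    obtain ⟨p, hp, k, hk, rfl⟩ := hcover g hg
    have hkx : k * x * k⁻¹ ∈ P := conj_mem_of_le_normalizer hHn hk hx
    refine conj_eq_one_iff.1 (hD _ hkx ?_)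
    have := mul_mem (mul_mem (inv_mem hp) hgx) hp
    rwa [show p⁻¹ * (p * w * k * x * (p * w * k)⁻¹) * p = w * (k * x * k⁻¹) * w⁻¹ by group] at this
  have hsemi : ∀ g : G, g ∉ H → ∀ p ∈ P, g⁻¹ * p * g ∈ H → p = 1 := by
    intro g hg p hp hH
    have h1 : g⁻¹ * p * g ∈ P := hmemP hH (by simpa using hpow hp g⁻¹)
    exact hti g⁻¹ (fun e => hg (by simpa using inv_mem e)) p hp (by rwa [inv_inv])
  have hidx : H.index = (3 ^ n) ^ 3 + 1 := by
    have h1 := H.card_mul_index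
    rw [hG, hcH, mul_right_comm] at h1
    exact Nat.eq_of_mul_eq_mul_right (hcH ▸ hHpos)
      (by rw [mul_comm H.index, mul_right_comm, h1]; ring)
  refine ⟨H, P, w, h.q8, h.lfac.data.invol, ?_, mem_sup_left (mem_zpowers t), le_sup_left,
    le_sup_right, hHn, hcP, h.card_H0, hcH, h.H0_comm, hidx, hsemi, hwH, hww, hwinv, ?_,
    fun e => hwH (e ▸ mem_top w), hti, hcover⟩
  · rw [h.lfac.card_cent, h.cardF, pow_two]
    congr 1
    rw [← Nat.mul_self_sub_mul_self_eq, one_mul]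
  · rw [hHC, h.card_Bt]

omit h in
theorem Point.reeCount {t : G} {H P D : Subgroup G} {w : G} {q : ℕ} (X : Point t H P D w q) :
    ReeCount t H P q where
  two_le := by have := X.q8; omega
  odd_q := X.q8
  sq_t := by rw [← pow_two]; exact X.invol ▸ pow_orderOf_eq_one t
  ne_one := fun e => by have := X.invol; rw [e, orderOf_one] at this; omega
  cent := X.card_cent
  le := X.P_le
  normal := X.normal
  card_P := X.card_P
  card_H := X.card_H
  proper := X.proper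
  ti := X.ti
  mem := X.D_le X.t_mem
  cent_H := X.cent_H.ge

omit h in
theorem Point.borelTwo {t : G} {H P D : Subgroup G} {w : G} {q : ℕ} (X : Point t H P D w q) :
    Field.BorelTwo t H P D w q where
  odd_q := X.q8
  order_t := X.invol
  card_cent := X.card_cent
  t_mem := X.t_mem
  P_le := X.P_le
  D_le := X.D_le
  normal := X.normal
  card_P := X.card_P
  card_D := X.card_D
  card_H := X.card_H
  comm := X.comm
  index := X.index
  semireg := X.semireg
  w_not := X.w_not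
  w_inv := X.w_inv
  cent_H := X.cent_H

omit h in
/-- `H` is transitive on the other cosets. -/
theorem Point.twoTrans {t : G} {H P D : Subgroup G} {w : G} {q : ℕ} (X : Point t H P D w q) :
    ∀ g₁ g₂ : G, g₁ ∉ H → g₂ ∉ H → ∃ k ∈ H, g₂⁻¹ * (k * g₁) ∈ H := by
  intro g₁ g₂ h₁ h₂
  obtain ⟨p₁, hp₁, k₁, hk₁, rfl⟩ := X.cover g₁ h₁
  obtain ⟨p₂, hp₂, k₂, hk₂, rfl⟩ := X.cover g₂ h₂
  refine ⟨p₂ * p₁⁻¹, X.P_le (mul_mem hp₂ (inv_mem hp₁)), ?_⟩
  rw [show (p₂ * w * k₂)⁻¹ * (p₂ * p₁⁻¹ * (p₁ * w * k₁)) = k₂⁻¹ * k₁ by group]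
  exact mul_mem (inv_mem hk₂) hk₁

omit h in
/-- The Ree case: from `JTData` and the order. -/
theorem exists_point_of_order {t : G} (hJ : JTData G t F) {m : ℕ}
    (hF : Fintype.card F = 3 ^ (2 * m + 1))
    (hG : Nat.card G =
      (3 ^ (2 * m + 1)) ^ 3 * ((3 ^ (2 * m + 1)) ^ 3 + 1) * (3 ^ (2 * m + 1) - 1)) :
    ∃ (H P D : Subgroup G) (w : G), Point t H P D w (3 ^ (2 * m + 1)) := by
  obtain ⟨L, hL⟩ := exists_lfac hJ
  obtain ⟨U, B, T, hD⟩ := exists_borelData hL hF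
  obtain ⟨H, P, w, hX⟩ := Setup.exists_point (L := L) (U := U) (B := B) (T := T)
    ⟨hL, hF, hD, mod_eight_three_pow m⟩ hG
  exact ⟨H, P, _, w, hX⟩

end Cfsg.Agent.AbelianSylow.TwoTrans
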