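import Cfsg.Agent.Lib.AbelianSylow.Local.Basic
import Cfsg.Agent.Lib.PSL2.Borel
import Cfsg.Agent.Lib.PSL2.PGLMaximal
import Cfsg.Agent.Lib.PSL2.SubfieldConj
import Mathlib.GroupTheory.SchurZassenhaus

/-!
# The Borel subgroup of `L` in characteristic three, `q ≡ 3 (mod 4)` (owner: helper17)

* `PSL2.BorelFacts`  : a Borel subgroup `B = U T` of odd order, trivial intersection, no real unipotent
* `Local.BorelData`  : the same inside the factor `L` of `C(t)`
-/

set_option autoImplicit false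
set_option linter.unusedSectionVars false
set_option linter.style.haveILetI false

namespace Cfsg.Agent.AbelianSylow.TwoTrans

open Subgroup MulAction Matrix

universe u

/-- A Borel subgroup `B = U T` of a subgroup `L`. -/
structure BorelData {G : Type*} [Group G] (L U B T : Subgroup G) (q : ℕ) : Prop where
  le : B ≤ L
  leU : U ≤ B
  leT : T ≤ B
  cardU : Nat.card U = q
  cardB : 2 * Nat.card B = q * (q - 1)
  cardT : 2 * Nat.card T = q - 1
  comm : ∀ a ∈ T, ∀ b ∈ T, a * b = b * a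
  norm : ∀ b ∈ B, ∀ x ∈ U, b * x * b⁻¹ ∈ U
  self : ∀ l ∈ L, (∀ x ∈ U, l * x * l⁻¹ ∈ U) → l ∈ B
  disj : ∀ l ∈ L, l ∉ B → ∀ x ∈ U, l * x * l⁻¹ ∈ U → x = 1
  nonreal : ∀ x ∈ L, x ^ 3 = 1 → ∀ l ∈ L, l * l = 1 → l * x * l⁻¹ = x⁻¹ → x = 1
  inv : ∃ w ∈ L, w * w = 1 ∧ w ≠ 1 ∧ ∀ a ∈ T, w * a * w⁻¹ = a⁻¹

theorem BorelData.map {G H : Type*} [Group G] [Group H] {L U B T : Subgroup G} {q : ℕ}
    (h : BorelData L U B T q) (f : G →* H) (hf : Function.Injective f) :
    BorelData (L.map f) (U.map f) (B.map f) (T.map f) q where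
  le := map_mono h.le
  leU := map_mono h.leU
  leT := map_mono h.leT
  cardU := by rw [card_map_of_injective hf, h.cardU]
  cardB := by rw [card_map_of_injective hf, h.cardB]
  cardT := by rw [card_map_of_injective hf, h.cardT]
  comm := by
    rintro _ ⟨a, ha, rfl⟩ _ ⟨b, hb, rfl⟩
    rw [← map_mul, ← map_mul, h.comm a ha b hb]
  norm := by
    rintro _ ⟨b, hb, rfl⟩ _ ⟨x, hx, rfl⟩
    exact ⟨_, h.norm b hb x hx, by rw [map_mul, map_mul, map_inv]⟩
  self := by
    rintro _ ⟨l, hl, rfl⟩ hN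
    refine mem_map_of_mem f (h.self l hl fun x hx => ?_)
    obtain ⟨y, hy, he⟩ := hN _ (mem_map_of_mem f hx)
    rw [← map_inv, ← map_mul, ← map_mul] at he
    exact hf he ▸ hy
  disj := by
    rintro _ ⟨l, hl, rfl⟩ hnB _ ⟨x, hx, rfl⟩ hc
    obtain ⟨y, hy, he⟩ := hc
    rw [← map_inv, ← map_mul, ← map_mul] at he
    rw [h.disj l hl (fun hb => hnB (mem_map_of_mem f hb)) x hx (hf he ▸ hy), map_one]
  nonreal := by
    rintro _ ⟨x, hx, rfl⟩ hx3 _ ⟨l, hl, rfl⟩ hl2 hc
    rw [← map_pow, ← map_one f] at hx3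
    rw [← map_mul, ← map_one f] at hl2
    rw [← map_inv, ← map_inv, ← map_mul, ← map_mul] at hc
    rw [h.nonreal x hx (hf hx3) l hl (hf hl2) (hf hc), map_one]
  inv := by
    obtain ⟨w, hw, hw2, hw1, hwT⟩ := h.inv
    refine ⟨f w, mem_map_of_mem f hw, by rw [← map_mul, hw2, map_one],
      fun e => hw1 (hf (e.trans (map_one f).symm)), ?_⟩
    rintro _ ⟨a, ha, rfl⟩
    rw [← map_inv, ← map_inv, ← map_mul, ← map_mul, hwT a ha]

section PSL

open Cfsg.Agent.PSL2

variable {F : Type*} [Field F] [Finite F] (p : ℕ) [Fact p.Prime] [CharP F p]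

local notation "φ" => (ProjectiveSpecialLinearGroup.toPGL : PSL2 F →* PGL2 F)

include p in
theorem unip_fix_eq {x : PSL2 F} (hx : x ≠ 1) (hxp : x ^ p = 1) {P Q : Pt F} (hP : x • P = P)
    (hQ : x • Q = Q) : P = Q := by
  refine eq_of_fix_pow_char p (g := φ x) (fun e => hx ?_) (by rw [← map_pow, hxp, map_one])
    (by rw [toPGL_smul, hP]) (by rw [toPGL_smul, hQ])
  exact ProjectiveSpecialLinearGroup.toPGL_injective (e.trans (map_one _).symm)

omit p [Fact p.Prime] [CharP F p] in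
theorem two_card_stabilizer (hq : Odd (Nat.card F)) (P : Pt F) :
    2 * Nat.card (stabilizer (PSL2 F) P) = Nat.card F * (Nat.card F - 1) := by
  rw [← card_borel_mul P]
  congr 1
  exact (Nat.gcd_eq_left (by obtain ⟨k, hk⟩ := hq; omega)).symm

omit p [Fact p.Prime] [CharP F p] in
theorem odd_stabilizer (hq : Nat.card F % 4 = 3) (P : Pt F) :
    Odd (Nat.card (stabilizer (PSL2 F) P)) := by
  have h := two_card_stabilizer (F := F) (Nat.odd_iff.2 (by omega)) P
  obtain ⟨k, hk⟩ : ∃ k, Nat.card F = 4 * k + 3 := ⟨Nat.card F / 4, by omega⟩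
  rw [hk, show 4 * k + 3 - 1 = 2 * (2 * k + 1) by omega, ← mul_assoc, mul_comm _ 2, mul_assoc] at h
  rw [Nat.eq_of_mul_eq_mul_left two_pos h]
  exact (Nat.odd_iff.2 (by omega)).mul (by simp)

include p in
/-- An element of order three is not inverted by an involution. -/
theorem psl_nonreal (hp : p = 3) (hq : Nat.card F % 4 = 3) {x l : PSL2 F} (hx : x ^ 3 = 1)
    (hl : l * l = 1) (hc : l * x * l⁻¹ = x⁻¹) : x = 1 := by
  by_contra hx1
  subst hp
  obtain ⟨P, hP⟩ := exists_fix_of_pow_char 3 (z := x) hx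
  have hlP : l • P = P := by
    refine (unip_fix_eq 3 hx1 hx hP ?_).symm
    have h1 : x⁻¹ • (l • P) = l • P := by
      rw [← hc, mul_smul, mul_smul, inv_smul_smul, hP]
    rw [inv_smul_eq_iff] at h1
    exact h1.symm
  have hl1 : l = 1 := PSL2.eq_one_of_sq
    ((odd_stabilizer hq P).of_dvd_nat (Subgroup.orderOf_dvd_natCard _ (mem_stabilizer_iff.2 hlP))) hl
  rw [hl1, one_mul, inv_one, mul_one] at hc
  apply hx1
  have h2 : x * x = 1 := eq_inv_iff_mul_eq_one.1 hc
  rwa [pow_succ, pow_two, h2, one_mul] at hx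

include p in
theorem exists_borelData_psl (hp : p = 3) (hq : Nat.card F % 4 = 3) {n : ℕ}
    (hn : Nat.card F = 3 ^ n) :
    ∃ U B T : Subgroup (PSL2 F), BorelData ⊤ U B T (Nat.card F) := by
  classical
  subst hp
  set P : Pt F := pinf
  set B := stabilizer (PSL2 F) P
  obtain ⟨ψ, hψ⟩ := exists_borel_hom (F := F) 3 P
  set U₀ := ψ.ker
  set q := Nat.card F
  have hodd : Odd q := Nat.odd_iff.2 (by omega)
  have hB : 2 * Nat.card B = q * (q - 1) := two_card_stabilizer hodd P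
  have hq2 : 2 ≤ q := by omega
  have hcop : q.Coprime (q - 1) := by
    conv_lhs => rw [← Nat.sub_add_cancel (show 1 ≤ q by omega)]
    simp
  have hrange : Nat.card ψ.range ∣ q - 1 := by
    rw [show q - 1 = Nat.card Fˣ from (Nat.card_units F).symm]
    exact Subgroup.card_subgroup_dvd_card _
  have hker : Nat.card U₀ * Nat.card ψ.range = Nat.card B := by
    rw [← U₀.card_mul_index, Subgroup.index_ker]
  have hdvd : q ∣ Nat.card U₀ := by
    have h2 : q.Coprime 2 := Nat.coprime_two_right.2 hodd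
    refine (h2.mul_right (hcop.coprime_dvd_right hrange)).dvd_of_dvd_mul_left
      (m := 2 * Nat.card ψ.range) ?_
    rw [mul_assoc, mul_comm (Nat.card ψ.range), hker, hB]
    exact dvd_mul_right _ _
  obtain ⟨k, hk⟩ : ∃ k, Nat.card U₀ = 3 ^ k :=
    IsPGroup.iff_card.1 fun x => ⟨1, by
      rw [pow_one]; exact Subtype.ext (Subtype.ext ((hψ x.1).1 (MonoidHom.mem_ker.1 x.2)))⟩
  have hU : Nat.card U₀ = q := by
    refine Nat.dvd_antisymm ?_ hdvd
    have h1 : 3 ^ k ∣ q * (q - 1) := hk ▸ hB ▸ (U₀.card_subgroup_dvd_card.mul_left 2)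
    have h3 : Nat.Coprime (3 ^ k) (q - 1) := by
      refine Nat.Coprime.pow_left k ((Nat.Prime.coprime_iff_not_dvd Nat.prime_three).2 fun h => ?_)
      rcases Nat.eq_zero_or_pos n with rfl | hn0
      · rw [pow_zero] at hn; omega
      · have h' : 3 ∣ q := hn ▸ dvd_pow_self 3 hn0.ne'
        omega
    rw [hk]
    exact h3.dvd_of_dvd_mul_right h1
  have hidx : U₀.index * 2 = q - 1 := by
    have h1 := U₀.card_mul_index
    rw [hU] at h1
    refine Nat.eq_of_mul_eq_mul_left (show 0 < q by omega) ?_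
    rw [← mul_assoc, h1, ← hB, mul_comm]
  obtain ⟨T₀, hT₀⟩ := Subgroup.exists_right_complement'_of_coprime (N := U₀)
    (by rw [hU]; exact hcop.coprime_dvd_right ⟨2, hidx.symm⟩)
  have hT : 2 * Nat.card T₀ = q - 1 := by
    have h1 := hT₀.card_mul_card
    rw [hU, ← U₀.card_mul_index, hU] at h1
    rw [Nat.eq_of_mul_eq_mul_left (show 0 < q by omega) h1, ← hidx, mul_comm]
  refine ⟨U₀.map B.subtype, B, T₀.map B.subtype, ?_⟩
  have hmemU : ∀ {x : PSL2 F}, x ∈ U₀.map B.subtype ↔ x • P = P ∧ x ^ 3 = 1 := by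
    intro x
    refine ⟨?_, fun ⟨h1, h2⟩ => ⟨⟨x, h1⟩, MonoidHom.mem_ker.2 ((hψ _).2 h2), rfl⟩⟩
    rintro ⟨y, hy, rfl⟩
    exact ⟨y.2, (hψ y).1 (MonoidHom.mem_ker.1 hy)⟩
  have hinv : ∃ w ∈ (⊤ : Subgroup (PSL2 F)), w * w = 1 ∧ w ≠ 1 ∧
      ∀ a ∈ T₀.map B.subtype, w * a * w⁻¹ = a⁻¹ := by
    haveI := isCyclic_of_le_stabilizer 3 (P := P) (map_subtype_le T₀) (by
      rw [card_map_of_injective B.subtype_injective]
      intro h
      have h1 : 3 ∣ q - 1 := hT ▸ dvd_mul_of_dvd_right h 2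
      rcases Nat.eq_zero_or_pos n with rfl | hn0
      · rw [pow_zero] at hn; omega
      · have h' : 3 ∣ q := hn ▸ dvd_pow_self 3 hn0.ne'
        omega)
    obtain ⟨⟨x, hxT⟩, hgen⟩ := IsCyclic.exists_generator (α := ↥(T₀.map B.subtype))
    have hxodd : Odd (orderOf x) :=
      (odd_stabilizer hq P).of_dvd_nat (Subgroup.orderOf_dvd_natCard _ (map_subtype_le T₀ hxT))
    obtain ⟨w, hw2, hw1, hwx⟩ : ∃ w : PSL2 F, w * w = 1 ∧ w ≠ 1 ∧ w * x * w⁻¹ = x⁻¹ := by
      by_cases hx1 : x = 1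
      · obtain ⟨w, hw⟩ := exists_prime_orderOf_dvd_card' (G := PSL2 F) 2 (by
          have hc := card_psl_mul (F := F)
          rw [Nat.gcd_eq_left (show 2 ∣ Nat.card F - 1 by omega)] at hc
          have h4 : 4 ∣ Nat.card F + 1 := by omega
          refine Nat.dvd_of_mul_dvd_mul_left two_pos ?_
          rw [hc]
          exact dvd_mul_of_dvd_right (dvd_mul_of_dvd_left h4 _) _)
        refine ⟨w, ?_, fun e => ?_, by subst hx1; group⟩
        · have hp2 := pow_orderOf_eq_one w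
          rwa [hw, pow_two] at hp2
        · rw [e, orderOf_one] at hw; omega
      · have hx3 : ¬ orderOf x ∣ 3 := fun h => by
          rcases (Nat.dvd_prime Nat.prime_three).1 h with e | e
          · exact hx1 (orderOf_eq_one_iff.1 e)
          · have h1 := Subgroup.orderOf_dvd_natCard _ hxT
            rw [card_map_of_injective B.subtype_injective, e] at h1
            have h1' : 3 ∣ q - 1 := hT ▸ dvd_mul_of_dvd_right h1 2
            rcases Nat.eq_zero_or_pos n with rfl | hn0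
            · rw [pow_zero] at hn; omega
            · have h' : 3 ∣ q := hn ▸ dvd_pow_self 3 hn0.ne'
              omega
        obtain ⟨w, hw2, hwx⟩ := exists_inverting 3 hx3
        refine ⟨w, hw2, fun e => hx1 ?_, hwx⟩
        rw [e, one_mul, inv_one, mul_one] at hwx
        exact PSL2.eq_one_of_sq hxodd (eq_inv_iff_mul_eq_one.1 hwx)
    refine ⟨w, mem_top _, hw2, hw1, fun a ha => ?_⟩
    obtain ⟨i, hi⟩ := mem_zpowers_iff.1 (hgen ⟨a, ha⟩)
    have hi' : x ^ i = a := congrArg Subtype.val hi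
    rw [← hi', ← conj_zpow, hwx, _root_.inv_zpow]
  refine ⟨le_top, map_subtype_le _, map_subtype_le _, ?_, hB, ?_, ?_, ?_, ?_, ?_, ?_, hinv⟩
  · rw [card_map_of_injective B.subtype_injective, hU]
  · rw [card_map_of_injective B.subtype_injective, hT]
  · rintro _ ⟨a, ha, rfl⟩ _ ⟨b, hb, rfl⟩
    have h1 : a * b * a⁻¹ * b⁻¹ ∈ U₀ := MonoidHom.mem_ker.2 (by
      rw [map_mul, map_mul, map_mul, map_inv, map_inv, mul_comm (ψ a)]; group)
    have h2 : a * b * a⁻¹ * b⁻¹ ∈ T₀ := mul_mem (mul_mem (mul_mem ha hb) (inv_mem ha)) (inv_mem hb)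
    have h3 := mem_bot.1 (hT₀.disjoint.le_bot ⟨h1, h2⟩)
    rw [mul_inv_eq_one, mul_inv_eq_iff_eq_mul] at h3
    exact congrArg Subtype.val h3
  · intro b hb x hx
    obtain ⟨h1, h2⟩ := hmemU.1 hx
    refine hmemU.2 ⟨?_, by rw [conj_pow, h2, mul_one, mul_inv_cancel]⟩
    have hb' : b • P = P := hb
    have hb2 : b⁻¹ • P = P := by rw [inv_smul_eq_iff, hb']
    rw [mul_smul, mul_smul, hb2, h1, hb']
  · intro l _ hN
    by_contra hlB
    obtain ⟨u₀, hu₀⟩ := exists_prime_orderOf_dvd_card' (G := ↥(U₀.map B.subtype)) 3 (by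
      rw [card_map_of_injective B.subtype_injective, hk]
      refine dvd_pow_self 3 fun h => ?_
      rw [h, pow_zero, hU] at hk; omega)
    obtain ⟨h1, h2⟩ := hmemU.1 u₀.2
    obtain ⟨h3, h4⟩ := hmemU.1 (hN _ u₀.2)
    have hne : (u₀ : PSL2 F) ≠ 1 := fun e => by
      rw [← Subgroup.orderOf_coe, e, orderOf_one] at hu₀; omega
    apply hlB
    show l • P = P
    have h5 : (u₀ : PSL2 F) • l⁻¹ • P = l⁻¹ • P := by
      rw [mul_smul, mul_smul] at h3
      exact (eq_inv_smul_iff).2 h3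
    have h6 := unip_fix_eq 3 hne h2 h1 h5
    exact ((eq_inv_smul_iff).1 h6)
  · intro l _ hlB x hx hc
    by_contra hx1
    obtain ⟨h1, h2⟩ := hmemU.1 hx
    obtain ⟨h3, h4⟩ := hmemU.1 hc
    apply hlB
    show l • P = P
    have h5 : x • l⁻¹ • P = l⁻¹ • P := by
      rw [mul_smul, mul_smul] at h3
      exact (eq_inv_smul_iff).2 h3
    have h6 := unip_fix_eq 3 hx1 h2 h1 h5
    exact ((eq_inv_smul_iff).1 h6)
  · exact fun x _ hx l _ hl hc => psl_nonreal 3 rfl hq hx hl hc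

end PSL

section Local

open Cfsg.Agent.AbelianSylow.Local

variable {G : Type u} [Group G] [Finite G] {F : Type} [Field F] [Fintype F] {t : G} {L : Subgroup G}

theorem mod_eight_three_pow (m : ℕ) : 3 ^ (2 * m + 1) % 8 = 3 := by
  rw [pow_succ, pow_mul, Nat.mul_mod, Nat.pow_mod]
  norm_num

/-- The Borel subgroup of `L` for `q = 3^(2m+1)`. -/
theorem exists_borelData (h : LFac t F L) {m : ℕ} (hF : Fintype.card F = 3 ^ (2 * m + 1)) :
    ∃ U B T : Subgroup G, BorelData L U B T (3 ^ (2 * m + 1)) := by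
  haveI : Fact (Nat.Prime 3) := ⟨Nat.prime_three⟩
  obtain ⟨p, hpc⟩ := CharP.exists F
  haveI := hpc
  obtain ⟨k, hp, hk⟩ := FiniteField.card F p
  obtain rfl : p = 3 := by
    have h1 : p ∣ 3 ^ (2 * m + 1) := hF ▸ hk ▸ dvd_pow_self p k.pos.ne'
    exact (Nat.prime_dvd_prime_iff_eq hp Nat.prime_three).1 (hp.dvd_of_dvd_pow h1)
  have hN : Nat.card F = 3 ^ (2 * m + 1) := by rw [Nat.card_eq_fintype_card, hF]
  obtain ⟨e⟩ := h.iso
  obtain ⟨U, B, T, hD⟩ := exists_borelData_psl (F := F) 3 rfl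
    (by have := mod_eight_three_pow m; omega) hN
  set ι : PSL2.PSL2 F →* G := L.subtype.comp e.symm.toMonoidHom with hι
  have hinj : Function.Injective ι := L.subtype_injective.comp e.symm.injective
  have htop : (⊤ : Subgroup (PSL2.PSL2 F)).map ι = L := by
    rw [hι, ← Subgroup.map_map, Subgroup.map_top_of_surjective _ e.symm.surjective,
      ← MonoidHom.range_eq_map, Subgroup.range_subtype]
  exact ⟨_, _, _, htop ▸ hN ▸ hD.map ι hinj⟩

end Local

end Cfsg.Agent.AbelianSylow.TwoTrans
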