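import Cfsg.Agent.Lib.AbelianSylow.TwoTrans.Setup
import Cfsg.Agent.Lib.HallOrders.Basic
import Cfsg.Agent.Lib.OddOrder14.Base

/-!
# The invariant 3-subgroup is a Sylow subgroup (owner: helper17)

* `Setup.exists_big` : a `⟨t⟩T`-invariant 3-subgroup `P ≥ U` of order `q³`, given the order of `G`
-/

set_option autoImplicit false
set_option linter.unusedSectionVars false
set_option linter.style.haveILetI false

namespace Cfsg.Agent.AbelianSylow.TwoTrans

open Subgroup Cfsg.Agent.AbelianSylow.Local Cfsg.Agent.OddOrder14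

universe u

variable {G : Type u} [Group G] [Finite G] {F : Type} [Field F] [Fintype F]

/-- An invariant 3-subgroup containing `U`. -/
def Inv3 (t : G) (U T P : Subgroup G) : Prop :=
  U ≤ P ∧ IsPGroup 3 P ∧ zpowers t ⊔ T ≤ normalizer (P : Set G)

variable {t : G} {L U B T : Subgroup G} {n : ℕ} (h : Setup t F L U B T n)
include h

theorem Setup.inv3_U : Inv3 t U T U := by
  refine ⟨le_rfl, h.isPGroup_U, sup_le (le_normalizer_of_conj fun a ha x hx => ?_)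
    (le_normalizer_of_conj fun a ha x hx => h.borel.norm a (h.borel.leT ha) x hx)⟩
  obtain ⟨i, rfl⟩ := mem_zpowers_iff.1 ha
  rw [← ((h.comm_L (h.borel.le (h.borel.leU hx))).zpow_right i).eq, mul_inv_cancel_right]
  exact hx

theorem Setup.exists_max : ∃ P : Subgroup G, Inv3 t U T P ∧
    ∀ R, Inv3 t U T R → Nat.card R ≤ Nat.card P := by
  haveI : Nonempty {P : Subgroup G // Inv3 t U T P} := ⟨⟨U, h.inv3_U⟩⟩
  obtain ⟨⟨P, hP⟩, hmax⟩ := Finite.exists_max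
    (fun P : {P : Subgroup G // Inv3 t U T P} => Nat.card (P.1))
  exact ⟨P, hP, fun R hR => hmax ⟨R, hR⟩⟩

theorem Setup.inf_H0 {P : Subgroup G} (hP : IsPGroup 3 P) : P ⊓ (zpowers t ⊔ T) = ⊥ := by
  haveI : Fact (Nat.Prime 3) := ⟨Nat.prime_three⟩
  obtain ⟨k, hk⟩ := IsPGroup.iff_card.1 hP
  refine disjoint_iff.1 (disjoint_of_coprime_natCard ?_)
  rw [hk, h.card_H0]
  refine Nat.Coprime.pow_left k ((Nat.Prime.coprime_iff_not_dvd Nat.prime_three).2 fun hd => ?_)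
  have h3 : 3 ∣ 3 ^ n := dvd_pow_self 3 (by have := h.n_pos; omega)
  have := Nat.one_le_pow n 3 (by norm_num)
  omega

theorem Setup.card_PH0 {P : Subgroup G} (hP : Inv3 t U T P) :
    Nat.card ↥(P ⊔ (zpowers t ⊔ T)) = Nat.card P * (3 ^ n - 1) := by
  have hc := PLocal.card_sup_mul_card_inf (H := P) (K := zpowers t ⊔ T) hP.2.2
  rwa [h.inf_H0 hP.2.1, card_bot, mul_one, h.card_H0] at hc

theorem Setup.w_coprime {a : ℕ} (ha : ∀ p : ℕ, p.Prime → p ∣ a → p ∣ 3 * (3 ^ n - 1)) :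
    ∃ w, (3 ^ n) ^ 3 + 1 = 4 * w ∧ a.Coprime w := by
  have h8 : ((3 ^ n) ^ 3 + 1) % 8 = 4 := by
    rw [Nat.add_mod, Nat.pow_mod, h.q8]
  refine ⟨((3 ^ n) ^ 3 + 1) / 4, by omega, ?_⟩
  have hw : ((3 ^ n) ^ 3 + 1) / 4 % 2 = 1 := by omega
  have hwd : ((3 ^ n) ^ 3 + 1) / 4 ∣ (3 ^ n) ^ 3 + 1 := Nat.div_dvd_of_dvd (by omega)
  refine Nat.coprime_of_dvd fun p hp hpa hpw => ?_
  have hpq : p ∣ (3 ^ n) ^ 3 + 1 := hpw.trans hwd
  have hp2 : p ≠ 2 := fun e => by subst e; omega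
  rcases hp.dvd_mul.1 (ha p hp hpa) with h3 | h1
  · obtain rfl := (Nat.prime_dvd_prime_iff_eq hp Nat.prime_three).1 h3
    have : 3 ∣ (3 ^ n) ^ 3 := dvd_pow (dvd_pow_self 3 (by have := h.n_pos; omega)) (by norm_num)
    omega
  · have h2 : p ∣ (3 ^ n) ^ 3 - 1 := h1.trans (by simpa using Nat.sub_dvd_pow_sub_pow (3 ^ n) 1 3)
    have h4 := Nat.one_le_pow 3 (3 ^ n) (Nat.pos_of_ne_zero (by simp))
    have h5 : p ∣ 2 := by
      have := Nat.dvd_sub hpq h2
      rwa [show (3 ^ n) ^ 3 + 1 - ((3 ^ n) ^ 3 - 1) = 2 by omega] at this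
    exact hp2 ((Nat.prime_dvd_prime_iff_eq hp Nat.prime_two).1 h5)

/-- The Hall subgroup of the normaliser. -/
theorem Setup.exists_hall (hG : Nat.card G = (3 ^ n) ^ 3 * ((3 ^ n) ^ 3 + 1) * (3 ^ n - 1))
    {P : Subgroup G} (hP : Inv3 t U T P) {a : ℕ} (hPa : Nat.card P = 3 ^ a) (ha : a < 3 * n) :
    ∃ Y : Subgroup G, ∃ i : ℕ, 1 ≤ i ∧ P ⊔ (zpowers t ⊔ T) ≤ Y ∧ Y ≤ normalizer (P : Set G) ∧
      Nat.card Y = 3 ^ a * (3 ^ n - 1) * 3 ^ i := by
  haveI : Fact (Nat.Prime 3) := ⟨Nat.prime_three⟩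
  set X := normalizer (P : Set G)
  have htX : t ∈ X := hP.2.2 (mem_sup_left (mem_zpowers t))
  have h4 := h.not_four hP.1 hP.2.1 htX
  have hsol : Group.IsSolvable X := HallOrders.solvable_of_not_four_dvd h4
  have hgrow : 3 ^ (a + 1) ∣ Nat.card X := Sylow.prime_pow_dvd_card_normalizer (by
    rw [hG, ← pow_mul]
    exact ((pow_dvd_pow 3 (by omega)).mul_right _).mul_right _) hPa
  set π : Set ℕ := {p | p ∣ 3 * (3 ^ n - 1)} with hπ
  set M := P ⊔ (zpowers t ⊔ T)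
  have hM : Nat.card M = 3 ^ a * (3 ^ n - 1) := hPa ▸ h.card_PH0 hP
  obtain ⟨Y, hY, hMY⟩ := exists_hallOf_ge (π := π) hsol (U := M)
    (sup_le le_normalizer hP.2.2) (fun p hp hd => by
      rw [hM] at hd
      rcases hp.dvd_mul.1 hd with h' | h'
      · exact dvd_mul_of_dvd_left (hp.dvd_of_dvd_pow h') _
      · exact dvd_mul_of_dvd_right h' _)
  obtain ⟨w, hw, hcw⟩ := h.w_coprime (a := Nat.card Y) hY.2.1
  have hYX : Nat.card Y * Y.relIndex X = Nat.card X := card_mul_relIndex hY.1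
  have h3Y : 3 ^ (a + 1) ∣ Nat.card Y := by
    refine ((Nat.Coprime.pow_left (a + 1) ((Nat.Prime.coprime_iff_not_dvd Nat.prime_three).2
      (hY.2.2 3 Nat.prime_three (show 3 ∈ π from dvd_mul_right 3 _))))).dvd_of_dvd_mul_right ?_
    rwa [hYX]
  have hYd : Nat.card Y ∣ (3 ^ n) ^ 3 * (3 ^ n - 1) := by
    have hT := h.borel.cardT
    obtain ⟨o, ho, hY2⟩ : ∃ o, Odd o ∧ Nat.card Y = 2 * o := by
      have h2 : 2 ∣ Nat.card Y := by
        refine (dvd_trans ?_ (card_dvd_of_le hMY))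
        rw [hM, ← hT]
        exact dvd_mul_of_dvd_right (dvd_mul_right 2 _) _
      refine ⟨Nat.card Y / 2, ?_, by omega⟩
      have : ¬ 4 ∣ Nat.card Y := fun hd => h4 (hd.trans (card_dvd_of_le hY.1))
      exact Nat.odd_iff.2 (by omega)
    have hd1 : Nat.card Y ∣ (3 ^ n) ^ 3 * (3 ^ n - 1) * 4 * w := by
      rw [mul_assoc _ 4 w, ← hw, mul_right_comm, ← hG]
      exact card_subgroup_dvd_card Y
    have hd2 := hcw.dvd_of_dvd_mul_right hd1
    rw [hY2, ← hT] at hd2 ⊢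
    have hd3 : o ∣ (3 ^ n) ^ 3 * Nat.card T * 4 := by
      refine Nat.dvd_of_mul_dvd_mul_left two_pos (hd2.trans (dvd_of_eq ?_))
      ring
    have hd4 : o ∣ (3 ^ n) ^ 3 * Nat.card T :=
      (show o.Coprime 4 from (Nat.coprime_two_right.2 ho).pow_right 2).dvd_of_dvd_mul_right hd3
    exact (mul_dvd_mul_left 2 hd4).trans (dvd_of_eq (by ring))
  obtain ⟨c, hc⟩ : Nat.card M ∣ Nat.card Y := card_dvd_of_le hMY
  have hq1 : 0 < 3 ^ n - 1 := by
    have := Nat.pow_le_pow_right (show 0 < 3 by norm_num) h.n_pos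
    omega
  have hc3 : 3 ^ a * c ∣ (3 ^ n) ^ 3 := by
    refine Nat.dvd_of_mul_dvd_mul_right hq1 ?_
    rw [mul_right_comm, ← hM, ← hc]
    exact hYd
  obtain ⟨i, -, rfl⟩ := (Nat.dvd_prime_pow Nat.prime_three).1
    ((Dvd.dvd.trans (dvd_mul_left c (3 ^ a)) hc3).trans (dvd_of_eq (pow_mul 3 n 3).symm))
  refine ⟨Y, i, Nat.pos_of_ne_zero fun hi => ?_, hMY, hY.1, by rw [hc, hM]⟩
  rw [hc, hM, hi, pow_zero, mul_one, pow_succ] at h3Y
  have h3 : 3 ∣ 3 ^ n - 1 := Nat.dvd_of_mul_dvd_mul_left (pow_pos three_pos a) h3Y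
  have : 3 ∣ 3 ^ n := dvd_pow_self 3 (by have := h.n_pos; omega)
  omega

/-- The contradiction from a proper Hall subgroup. -/
theorem Setup.not_hall {P : Subgroup G} (hP : Inv3 t U T P)
    (hmax : ∀ R, Inv3 t U T R → Nat.card R ≤ Nat.card P) {a i : ℕ} (hPa : Nat.card P = 3 ^ a)
    (hi : 1 ≤ i) {Y : Subgroup G} (hMY : P ⊔ (zpowers t ⊔ T) ≤ Y)
    (hYX : Y ≤ normalizer (P : Set G)) (hY : Nat.card Y = 3 ^ a * (3 ^ n - 1) * 3 ^ i) : False := by
  haveI : Fact (Nat.Prime 3) := ⟨Nat.prime_three⟩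
  set H0 := zpowers t ⊔ T
  have h3q : ¬ 3 ∣ 3 ^ n - 1 := fun hd => by
    have : 3 ∣ 3 ^ n := dvd_pow_self 3 (by have := h.n_pos; omega)
    have := Nat.one_le_pow n 3 (by norm_num)
    omega
  have hPY : P ≤ Y := le_sup_left.trans hMY
  have hHY : H0 ≤ Y := le_sup_right.trans hMY
  have htY : t ∈ Y := hHY (mem_sup_left (mem_zpowers t))
  haveI hsolY : Group.IsSolvable Y := HallOrders.solvable_of_not_four_dvd fun hd =>
    h.not_four hP.1 hP.2.1 (hYX htY) (hd.trans (card_dvd_of_le hYX))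
  haveI : (P.subgroupOf Y).Normal := normal_subgroupOf_of_le_normalizer hYX
  set mk := QuotientGroup.mk' (P.subgroupOf Y)
  set A := (H0.subgroupOf Y).map mk
  have hcomap : A.comap mk = (P ⊔ H0).subgroupOf Y := by
    rw [comap_map_eq, QuotientGroup.ker_mk', sup_comm, ← subgroupOf_sup hPY hHY]
  have hAn : A.Normal := by
    refine normal_of_maximal A ?_ ?_ (j := i) ?_ fun R hR hAR => ?_
    · rintro _ ⟨x, hx, rfl⟩ _ ⟨y, hy, rfl⟩
      rw [← map_mul, ← map_mul]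
      exact congrArg mk (Subtype.ext (h.H0_comm x hx y hy))
    · intro hd
      refine h3q ((hd.trans (card_map_dvd _ mk)).trans (dvd_of_eq ?_))
      rw [Nat.card_congr (subgroupOfEquivOfLe hHY).toEquiv, h.card_H0]
    · rw [← A.index_comap_of_surjective (f := mk) (QuotientGroup.mk'_surjective _), hcomap]
      show (P ⊔ H0).relIndex Y = 3 ^ i
      have h1 := card_mul_relIndex hMY
      rw [h.card_PH0 hP, hPa, hY] at h1
      refine Nat.eq_of_mul_eq_mul_left ?_ h1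
      exact Nat.mul_pos (pow_pos three_pos a) (Nat.pos_of_ne_zero fun e => h3q (e ▸ dvd_zero 3))
    · set R' := R.comap mk
      have hker : mk.ker ≤ R' := fun x hx => by
        show mk x ∈ R
        rw [MonoidHom.mem_ker.1 hx]; exact one_mem _
      have hR' : IsPGroup 3 R' := IsPGroup.comap_of_ker_isPGroup hR mk (by
        rw [QuotientGroup.ker_mk']
        exact hP.2.1.of_equiv (subgroupOfEquivOfLe hPY).symm)
      have hPR : P ≤ R'.map Y.subtype := fun x hx =>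
        ⟨⟨x, hPY hx⟩, hker (by rw [QuotientGroup.ker_mk']; exact hx), rfl⟩
      have hinv : Inv3 t U T (R'.map Y.subtype) := by
        refine ⟨hP.1.trans hPR, hR'.map _, le_normalizer_of_conj ?_⟩
        rintro b hb _ ⟨y, hy, rfl⟩
        refine ⟨⟨b, hHY hb⟩ * y * ⟨b, hHY hb⟩⁻¹, ?_, rfl⟩
        show mk _ ∈ R
        rw [map_mul, map_mul, map_inv]
        exact conj_mem_of_le_normalizer hAR (mem_map_of_mem mk (show (⟨b, hHY hb⟩ : Y) ∈
          H0.subgroupOf Y from hb)) hy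
      have heq := eq_of_le_of_card_ge hPR (hmax _ hinv)
      rw [← map_comap_eq_self_of_surjective (QuotientGroup.mk'_surjective _) R, Subgroup.map_eq_bot_iff,
        QuotientGroup.ker_mk']
      intro x hx
      show (x : G) ∈ P
      rw [heq]
      exact mem_map_of_mem _ hx
  have hMn : ∀ y ∈ Y, y * t * y⁻¹ ∈ P ⊔ H0 := by
    intro y hy
    have h1 : (⟨y, hy⟩ : Y) * ⟨t, htY⟩ * ⟨y, hy⟩⁻¹ ∈ A.comap mk := by
      refine (Normal.comap hAn mk).conj_mem _ ?_ _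
      rw [hcomap]
      exact mem_sup_right (mem_sup_left (mem_zpowers t))
    rw [hcomap] at h1
    exact h1
  have hM4 : ¬ 4 ∣ Nat.card ↥(P ⊔ H0) := fun hd =>
    h.not_four hP.1 hP.2.1 (hYX htY) (hd.trans (card_dvd_of_le (hMY.trans hYX)))
  set C := Y ⊓ centralizer ({t} : Set G)
  have hYPC : Y ≤ P ⊔ C := by
    intro y hy
    obtain ⟨⟨m, hm⟩, hmy⟩ := exists_conj_invol hM4
      (a := (⟨t, mem_sup_right (mem_sup_left (mem_zpowers t))⟩ : ↥(P ⊔ H0)))
      (b := ⟨y * t * y⁻¹, hMn y hy⟩) (by rw [← orderOf_coe]; exact h.lfac.data.invol)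
      (by
        rw [← orderOf_coe]
        show orderOf (MulAut.conj y t) = 2
        rw [MulEquiv.orderOf_eq, h.lfac.data.invol])
    have e : m * t * m⁻¹ = y * t * y⁻¹ := congrArg Subtype.val hmy
    have hct : m⁻¹ * y ∈ C := by
      refine Subgroup.mem_inf.2 ⟨Y.mul_mem (Y.inv_mem (hMY hm)) hy, mem_centralizer_singleton_iff.2 ?_⟩
      calc m⁻¹ * y * t = m⁻¹ * (y * t * y⁻¹) * y := by group
        _ = m⁻¹ * (m * t * m⁻¹) * y := by rw [e]
        _ = t * (m⁻¹ * y) := by group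
    obtain ⟨p, hp, b, hb, rfl⟩ := exists_mul_of_mem_sup hP.2.2 hm
    have hbC : b ∈ C := ⟨hHY hb, mem_centralizer_singleton_iff.2 (h.H0_comm_t hb).eq⟩
    rw [show y = p * (b * ((p * b)⁻¹ * y)) by group]
    exact mul_mem_sup hp (mul_mem hbC hct)
  have hcard : Nat.card Y * 3 ^ n = Nat.card P * Nat.card C := by
    have h1 := PLocal.card_sup_mul_card_inf (H := P) (K := C) (inf_le_left.trans hYX)
    rwa [← le_antisymm hYPC (sup_le hPY inf_le_left), ← inf_assoc, inf_eq_left.2 hPY,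
      h.inf_cent hP.1 hP.2.1, h.borel.cardU] at h1
  have hC : Nat.card C ∣ 3 ^ n * (3 ^ n - 1) := h.card_Bt ▸ card_dvd_of_le fun x hx =>
    h.normalizer_cent hP.1 hP.2.1 (hYX hx.1) (mem_centralizer_singleton_iff.1 hx.2)
  have h2 : Nat.card Y * 3 ^ n ∣ 3 ^ a * (3 ^ n - 1) * 3 ^ n := by
    rw [hcard, hPa, mul_assoc, mul_comm (3 ^ n - 1)]
    exact mul_dvd_mul_left _ hC
  have h3 := Nat.dvd_of_mul_dvd_mul_right (pow_pos three_pos n) h2
  rw [hY] at h3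
  have hq1 : 0 < 3 ^ n - 1 := Nat.pos_of_ne_zero fun e => h3q (by rw [e]; exact dvd_zero 3)
  have h4 := Nat.le_of_dvd (Nat.mul_pos (pow_pos three_pos a) hq1) h3
  have h5 : 3 ≤ 3 ^ i := by simpa using Nat.pow_le_pow_right (show 0 < 3 by norm_num) hi
  have h6 : 0 < 3 ^ a * (3 ^ n - 1) := Nat.mul_pos (pow_pos three_pos a) hq1
  have h7 := Nat.mul_le_mul_left (3 ^ a * (3 ^ n - 1)) h5
  omega

/-- There is an invariant 3-subgroup of order `q³`. -/
theorem Setup.exists_big (hG : Nat.card G = (3 ^ n) ^ 3 * ((3 ^ n) ^ 3 + 1) * (3 ^ n - 1)) :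
    ∃ P : Subgroup G, Inv3 t U T P ∧ Nat.card P = (3 ^ n) ^ 3 := by
  haveI : Fact (Nat.Prime 3) := ⟨Nat.prime_three⟩
  obtain ⟨P, hP, hmax⟩ := h.exists_max
  obtain ⟨a, ha⟩ := IsPGroup.iff_card.1 hP.2.1
  refine ⟨P, hP, ?_⟩
  have hd : 3 ^ a ∣ (3 ^ n) ^ 3 := by
    have h1 : 3 ^ a ∣ (3 ^ n) ^ 3 * (((3 ^ n) ^ 3 + 1) * (3 ^ n - 1)) := by
      rw [← mul_assoc, ← hG, ← ha]; exact card_subgroup_dvd_card P
    refine (Nat.Coprime.pow_left a ((Nat.Prime.coprime_iff_not_dvd Nat.prime_three).2 ?_)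
      ).dvd_of_dvd_mul_right h1
    intro h3
    have hq : 3 ∣ 3 ^ n := dvd_pow_self 3 (by have := h.n_pos; omega)
    have hq3 : 3 ∣ (3 ^ n) ^ 3 := dvd_pow hq (by norm_num)
    have h4 := Nat.one_le_pow n 3 (by norm_num)
    rcases Nat.prime_three.dvd_mul.1 h3 with e | e <;> omega
  rw [← pow_mul] at hd ⊢
  have hle : a ≤ n * 3 := (Nat.pow_dvd_pow_iff_le_right (by norm_num)).1 hd
  rcases lt_or_eq_of_le hle with hlt | rfl
  · exfalso
    obtain ⟨Y, i, hi, hMY, hYX, hY⟩ := h.exists_hall hG hP ha (by omega)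
    exact h.not_hall hP hmax ha hi hMY hYX hY
  · exact ha

end Cfsg.Agent.AbelianSylow.TwoTrans
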