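import Cfsg.Agent.Lib.Solvable.Fitting
import Cfsg.Agent.Lib.PLocal.Basic
import Mathlib.GroupTheory.Sylow

/-!
# Small general lemmas for the doubly transitive action (owner: helper17)

* `normal_of_maximal`          : an abelian `3'`-subgroup of `3`-power index, no invariant `3`-subgroup
* `exists_conj_invol`          : one class of involutions when `4 ∤ |M|`
-/

set_option autoImplicit false
set_option linter.unusedSectionVars false
set_option linter.style.haveILetI false

namespace Cfsg.Agent.AbelianSylow.TwoTrans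

open Subgroup

variable {G : Type*} [Group G] [Finite G]

theorem le_normalizer_of_conj {A H : Subgroup G} (h : ∀ a ∈ A, ∀ x ∈ H, a * x * a⁻¹ ∈ H) :
    A ≤ normalizer (H : Set G) := by
  intro a ha
  refine mem_normalizer_iff.2 fun x => ⟨h a ha x, fun hx => ?_⟩
  have := h a⁻¹ (inv_mem ha) _ hx
  rwa [inv_inv, show a⁻¹ * (a * x * a⁻¹) * a = x by group] at this

theorem conj_mem_of_le_normalizer {A H : Subgroup G} (h : A ≤ normalizer (H : Set G)) {a x : G}
    (ha : a ∈ A) (hx : x ∈ H) : a * x * a⁻¹ ∈ H :=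
  (mem_normalizer_iff.1 (h ha) x).1 hx

theorem exists_mul_of_mem_sup {H K : Subgroup G} (h : K ≤ normalizer (H : Set G)) {x : G}
    (hx : x ∈ H ⊔ K) : ∃ a ∈ H, ∃ b ∈ K, x = a * b := by
  rw [← SetLike.mem_coe, coe_mul_of_right_le_normalizer_left H K h] at hx
  obtain ⟨a, ha, b, hb, e⟩ := hx
  exact ⟨a, ha, b, hb, e.symm⟩

theorem eq_one_of_orderOf_coprime {x : G} {m k : ℕ} (hmk : m.Coprime k) (h1 : orderOf x ∣ m)
    (h2 : orderOf x ∣ k) : x = 1 :=
  orderOf_eq_one_iff.1 (Nat.eq_one_of_dvd_coprimes hmk h1 h2)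

/-- An abelian `3'`-subgroup of `3`-power index normalising no non-trivial `3`-subgroup is normal. -/
theorem normal_of_maximal [Group.IsSolvable G] (A : Subgroup G)
    (hA : ∀ a ∈ A, ∀ b ∈ A, a * b = b * a) (h3 : ¬ 3 ∣ Nat.card A) {j : ℕ} (hidx : A.index = 3 ^ j)
    (hmax : ∀ R : Subgroup G, IsPGroup 3 R → A ≤ normalizer (R : Set G) → R = ⊥) : A.Normal := by
  haveI : Fact (Nat.Prime 3) := ⟨Nat.prime_three⟩
  set F := Cfsg.piCore ({3}ᶜ : Set ℕ) G
  have hF : Subgroup.centralizer (F : Set G) ≤ F :=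
    Solvable.centralizer_piCore_le (Solvable.isPiSeparable_of_isSolvable _) (by
      rw [compl_compl, ← Cores.pCore_eq_piCore]
      exact hmax _ (Cores.isPGroup_pCore 3 G)
        (by rw [normalizer_eq_top (H := Cfsg.pCore 3 G) (h := Subgroup.sSup_normal _ fun _ h => h.1)]
            exact le_top))
  haveI : F.Normal := Cfsg.piCore_normal _ _
  have h3F : ¬ 3 ∣ Nat.card F := fun h => Cores.card_piCore _ Nat.prime_three h rfl
  have hFA : F ≤ A := by
    have hc := PLocal.card_sup_mul_card_inf (H := F) (K := A) le_normalizer_of_normal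
    have h3M : ¬ 3 ∣ Nat.card ↥(F ⊔ A) := fun h => by
      rcases Nat.prime_three.dvd_mul.1 (hc ▸ dvd_mul_of_dvd_left h _) with h' | h'
      exacts [h3F h', h3 h']
    have h1 : A.relIndex (F ⊔ A) = 1 := by
      refine Nat.eq_one_of_dvd_coprimes (Nat.Coprime.pow_left j
        ((Nat.Prime.coprime_iff_not_dvd Nat.prime_three).2 h3M))
        (hidx ▸ relIndex_dvd_index_of_le le_sup_right) ?_
      rw [← relIndex_mul_relIndex ⊥ A (F ⊔ A) bot_le le_sup_right |>.trans (relIndex_bot_left _)]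
      exact dvd_mul_left _ _
    exact le_sup_left.trans (relIndex_eq_one.1 h1)
  have hAF : A ≤ F := le_trans (fun a ha => mem_centralizer_iff.2 fun f hf => hA f (hFA hf) a ha) hF
  exact le_antisymm hFA hAF ▸ inferInstance

/-- Involutions are conjugate when `4 ∤ |M|`. -/
theorem exists_conj_invol (h4 : ¬ 4 ∣ Nat.card G) {a b : G} (ha : orderOf a = 2) (hb : orderOf b = 2) :
    ∃ g : G, g * a * g⁻¹ = b := by
  haveI : Fact (Nat.Prime 2) := ⟨Nat.prime_two⟩
  obtain ⟨P, hP⟩ := (IsPGroup.of_card (G := zpowers a) (p := 2) (n := 1)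
    (by rw [Nat.card_zpowers, ha, pow_one])).exists_le_sylow
  obtain ⟨Q, hQ⟩ := (IsPGroup.of_card (G := zpowers b) (p := 2) (n := 1)
    (by rw [Nat.card_zpowers, hb, pow_one])).exists_le_sylow
  obtain ⟨g, hg⟩ := MulAction.exists_smul_eq G P Q
  have hQ2 : Nat.card (Q : Subgroup G) = 2 := by
    obtain ⟨k, hk⟩ := IsPGroup.iff_card.1 Q.isPGroup'
    have h1 : 2 ∣ Nat.card (Q : Subgroup G) :=
      (dvd_of_eq (show 2 = Nat.card ↥(zpowers b) by rw [Nat.card_zpowers, hb])).trans
        (card_dvd_of_le hQ)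
    rw [hk] at h1 ⊢
    rcases k with _ | _ | k
    · norm_num at h1
    · norm_num
    · exact absurd (((pow_dvd_pow 2 (show 2 ≤ k + 1 + 1 by omega)).trans hk.symm.dvd).trans
        (card_subgroup_dvd_card _)) h4
  have hQb : zpowers b = (Q : Subgroup G) := by
    refine eq_of_le_of_card_ge hQ ?_
    rw [hQ2, Nat.card_zpowers, hb]
  have hga : g * a * g⁻¹ ∈ zpowers b := by
    rw [hQb, ← hg, Sylow.coe_subgroup_smul]
    exact ⟨a, hP (mem_zpowers a), rfl⟩
  obtain ⟨i, hi⟩ := mem_zpowers_iff.1 hga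
  refine ⟨g, ?_⟩
  rw [← zpow_mod_orderOf, hb] at hi
  rcases Int.emod_two_eq_zero_or_one i with e | e
  · rw [show ((2 : ℕ) : ℤ) = 2 from rfl, e, zpow_zero, eq_comm, conj_eq_one_iff] at hi
    rw [hi, orderOf_one] at ha
    omega
  · rw [show ((2 : ℕ) : ℤ) = 2 from rfl, e, zpow_one] at hi
    exact hi.symm

end Cfsg.Agent.AbelianSylow.TwoTrans
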