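import Cfsg.Agent.Lib.AbelianSylow.TwoTrans.Borel
import Cfsg.Agent.Lib.AbelianSylow.TwoTrans.Tools
import Cfsg.Agent.Lib.GWKlein.Endgame

/-!
# No real elements of order three, and what follows (owner: helper17)

* `Setup.eq_bot_of_pair` : a `3`-group normalised by two commuting involutions, one fixed-point-free, is trivial
* `Setup.inf_cent`       : `P ∩ C(t) = U` for an invariant `3`-subgroup `P ≥ U`
* `Setup.not_four`       : the normaliser of such `P` has order not divisible by four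
-/

set_option autoImplicit false
set_option linter.unusedSectionVars false
set_option linter.style.haveILetI false

namespace Cfsg.Agent.AbelianSylow.TwoTrans

open Subgroup Cfsg.Agent.AbelianSylow.Local

universe u

variable {G : Type u} [Group G] [Finite G] {F : Type} [Field F] [Fintype F]

/-- The situation of the doubly transitive action, `q = 3 ^ n`. -/
structure Setup (t : G) (F : Type) [Field F] [Fintype F] (L U B T : Subgroup G) (n : ℕ) : Prop where
  lfac : LFac t F L
  cardF : Fintype.card F = 3 ^ n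
  borel : BorelData L U B T (3 ^ n)
  q8 : 3 ^ n % 8 = 3

variable {t : G} {L U B T : Subgroup G} {n : ℕ} (h : Setup t F L U B T n)
include h

theorem Setup.n_pos : 1 ≤ n := by
  rcases Nat.eq_zero_or_pos n with rfl | h0
  · have := h.q8; norm_num at this
  · exact h0

theorem Setup.tt : t * t = 1 := h.lfac.tt

theorem Setup.t_ne : t ≠ 1 := fun e => by
  have := h.lfac.data.invol
  rw [e, orderOf_one] at this
  omega

theorem Setup.comm_L {x : G} (hx : x ∈ L) : Commute x t := h.lfac.ctx.comm x hx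

theorem Setup.odd_T : Odd (Nat.card T) := by
  have h1 := h.borel.cardT
  obtain ⟨k, hk⟩ : ∃ k, 3 ^ n = 8 * k + 3 := ⟨3 ^ n / 8, by have := h.q8; omega⟩
  rw [hk] at h1
  exact Nat.odd_iff.2 (by omega)

theorem Setup.odd_B : Odd (Nat.card B) := by
  have h1 := h.borel.cardB
  obtain ⟨k, hk⟩ : ∃ k, 3 ^ n = 8 * k + 3 := ⟨3 ^ n / 8, by have := h.q8; omega⟩
  rw [hk, show 8 * k + 3 - 1 = 2 * (4 * k + 1) by omega, ← mul_assoc, mul_comm _ 2, mul_assoc] at h1
  rw [Nat.eq_of_mul_eq_mul_left two_pos h1]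
  exact (Nat.odd_iff.2 (by omega)).mul (Nat.odd_iff.2 (by omega))

theorem Setup.not_three_T : ¬ 3 ∣ Nat.card T := fun hd => by
  have h1 := h.borel.cardT
  have h2 : 3 ∣ 3 ^ n := dvd_pow_self 3 (by have := h.n_pos; omega)
  have h3 : 3 ∣ 3 ^ n - 1 := h1 ▸ dvd_mul_of_dvd_right hd 2
  have h4 := Nat.one_le_pow n 3 (by norm_num)
  omega

theorem Setup.isPGroup_U : IsPGroup 3 U := IsPGroup.of_card h.borel.cardU

/-- `⟨t⟩ T`. -/
theorem Setup.H0_comm : ∀ a ∈ zpowers t ⊔ T, ∀ b ∈ zpowers t ⊔ T, a * b = b * a := by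
  have hTt : T ≤ centralizer (zpowers t : Set G) := fun x hx => mem_centralizer_iff.2 fun z hz => by
    obtain ⟨i, rfl⟩ := mem_zpowers_iff.1 hz
    exact ((h.comm_L (h.borel.le (h.borel.leT hx))).zpow_right i).eq.symm
  have h1 : zpowers t ⊔ T ≤ centralizer (T : Set G) := sup_le (le_centralizer_iff.1 hTt)
    fun x hx => mem_centralizer_iff.2 fun z hz => h.borel.comm z hz x hx
  have h2 : zpowers t ⊔ T ≤ centralizer (zpowers t : Set G) := sup_le
    (le_centralizer_iff_isMulCommutative.2 inferInstance) hTt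
  have h3 : zpowers t ⊔ T ≤ centralizer ((zpowers t ⊔ T : Subgroup G) : Set G) :=
    sup_le (le_centralizer_iff.1 h2) (le_centralizer_iff.1 h1)
  exact fun a ha b hb => (mem_centralizer_iff.1 (h3 ha) b hb).symm

theorem Setup.H0_comm_t {x : G} (hx : x ∈ zpowers t ⊔ T) : Commute x t :=
  h.H0_comm x hx t (mem_sup_left (mem_zpowers t))

theorem Setup.le_normalizer_zpowers {K : Subgroup G} (hK : K ≤ L) :
    K ≤ normalizer (zpowers t : Set G) := le_normalizer_of_conj fun a ha x hx => by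
  obtain ⟨i, rfl⟩ := mem_zpowers_iff.1 hx
  rw [((h.comm_L (hK ha)).zpow_right i).eq, mul_inv_cancel_right]
  exact hx

theorem Setup.card_ext {K : Subgroup G} (hK : K ≤ L) (hodd : Odd (Nat.card K)) :
    Nat.card ↥(zpowers t ⊔ K) = 2 * Nat.card K := by
  have hc := PLocal.card_sup_mul_card_inf (H := zpowers t) (K := K) (h.le_normalizer_zpowers hK)
  have hinf : zpowers t ⊓ K = ⊥ := disjoint_iff.1 (disjoint_of_coprime_natCard
    (by rw [Nat.card_zpowers, h.lfac.data.invol]; exact Nat.coprime_two_left.2 hodd))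
  rwa [hinf, card_bot, mul_one, Nat.card_zpowers, h.lfac.data.invol] at hc

theorem Setup.card_H0 : Nat.card ↥(zpowers t ⊔ T) = 3 ^ n - 1 :=
  (h.card_ext (h.borel.leT.trans h.borel.le) h.odd_T).trans h.borel.cardT

theorem Setup.card_Bt : Nat.card ↥(zpowers t ⊔ B) = 3 ^ n * (3 ^ n - 1) :=
  (h.card_ext h.borel.le h.odd_B).trans h.borel.cardB

theorem Setup.invol_Bt {x : G} (hx : x ∈ zpowers t ⊔ B) (hxx : x * x = 1) : x = 1 ∨ x = t := by
  obtain ⟨a, ha, b, hb, rfl⟩ := exists_mul_of_mem_sup (h.le_normalizer_zpowers h.borel.le) hx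
  obtain ⟨i, rfl⟩ := mem_zpowers_iff.1 ha
  have hi : t ^ i = 1 ∨ t ^ i = t := by
    rw [← zpow_mod_orderOf, h.lfac.data.invol]
    rcases Int.emod_two_eq_zero_or_one i with e | e
    · exact Or.inl (by rw [show ((2 : ℕ) : ℤ) = 2 from rfl, e, zpow_zero])
    · exact Or.inr (by rw [show ((2 : ℕ) : ℤ) = 2 from rfl, e, zpow_one])
  have hc := h.comm_L (h.borel.le hb)
  have hb1 : b = 1 := PSL2.eq_one_of_sq (h.odd_B.of_dvd_nat (B.orderOf_dvd_natCard hb)) (by
    rcases hi with e | e <;> rw [e] at hxx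
    · simpa using hxx
    · rwa [mul_assoc, ← mul_assoc b, hc.eq, mul_assoc t b, ← mul_assoc t t, h.tt, one_mul] at hxx)
  rw [hb1, mul_one]
  exact hi

/-- What commutes with `t` and normalises `U` lies in `⟨t⟩ B`. -/
theorem Setup.mem_Bt {c : G} (hc : Commute c t) (hN : ∀ x ∈ U, c * x * c⁻¹ ∈ U) :
    c ∈ zpowers t ⊔ B := by
  rcases h.lfac.ctx.split c hc with hL | ⟨e, he, rfl⟩
  · exact mem_sup_right (h.borel.self c hL hN)
  · refine mul_mem (mem_sup_left (mem_zpowers t)) (mem_sup_right (h.borel.self e he fun x hx => ?_))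
    have hx' := hN x hx
    have ht := (h.comm_L (h.lfac.ctx.norm e he x (h.borel.le (h.borel.leU hx)))).eq
    rwa [show t * e * x * (t * e)⁻¹ = t * (e * x * e⁻¹) * t⁻¹ by group, ← ht,
      mul_inv_cancel_right] at hx'

/-- No element of order three is inverted inside the centraliser of an involution. -/
theorem Setup.not_real {j u l : G} (hj : orderOf j = 2) (hu : u ^ 3 = 1) (hju : Commute u j)
    (hl : l * l = 1) (hjl : Commute l j) (hc : l * u * l⁻¹ = u⁻¹) : u = 1 := by
  haveI : Fact (Nat.Prime 3) := ⟨Nat.prime_three⟩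
  obtain ⟨g, hg⟩ : ∃ g : G, g * j * g⁻¹ = t := by
    obtain ⟨g, hg⟩ := h.lfac.conj_invol hj
    exact ⟨g⁻¹, by rw [← hg]; group⟩
  suffices hs : g * u * g⁻¹ = 1 from conj_eq_one_iff.1 hs
  have cj : ∀ a b : G, g * a * g⁻¹ * (g * b * g⁻¹) = g * (a * b) * g⁻¹ := fun a b => by group
  have h3 : (g * u * g⁻¹) ^ 3 = 1 := by rw [conj_pow, hu, mul_one, mul_inv_cancel]
  have hut : Commute (g * u * g⁻¹) t := by
    show _ = _
    rw [← hg, cj, cj, hju.eq]
  have hlt : Commute (g * l * g⁻¹) t := by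
    show _ = _
    rw [← hg, cj, cj, hjl.eq]
  have hll : g * l * g⁻¹ * (g * l * g⁻¹) = 1 := by rw [cj, hl, mul_one, mul_inv_cancel]
  have hc' : g * l * g⁻¹ * (g * u * g⁻¹) * (g * l * g⁻¹)⁻¹ = (g * u * g⁻¹)⁻¹ := by
    rw [show (g * l * g⁻¹)⁻¹ = g * l⁻¹ * g⁻¹ by group, cj, cj, hc]; group
  generalize g * u * g⁻¹ = v at h3 hut hc' ⊢
  generalize g * l * g⁻¹ = w at hlt hll hc'
  have hvL : v ∈ L := h.lfac.ctx.mem_of_odd hut
    ((Nat.odd_iff.2 (by norm_num : 3 % 2 = 1)).of_dvd_nat (orderOf_dvd_of_pow_eq_one h3))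
  rcases h.lfac.ctx.split w hlt with hw | ⟨e, he, rfl⟩
  · exact h.borel.nonreal v hvL h3 w hw hll hc'
  · refine h.borel.nonreal v hvL h3 e he ?_ ?_
    · rwa [mul_assoc, ← mul_assoc e, (h.comm_L he).eq, mul_assoc t e, ← mul_assoc t t, h.tt,
        one_mul] at hll
    · rw [show t * e * v * (t * e)⁻¹ = t * (e * v * e⁻¹) * t⁻¹ by group,
        ← (h.comm_L (h.lfac.ctx.norm e he v hvL)).eq, mul_inv_cancel_right] at hc'
      exact hc'

/-- A `3`-element inverted inside the centraliser of an involution is trivial. -/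
theorem Setup.not_real_pow {j x l : G} {k : ℕ} (hj : orderOf j = 2) (hx : x ^ 3 ^ k = 1)
    (hjx : Commute x j) (hl : l * l = 1) (hjl : Commute l j) (hc : l * x * l⁻¹ = x⁻¹) : x = 1 := by
  induction k with
  | zero => rwa [pow_zero, pow_one] at hx
  | succ k ih =>
    refine ih (h.not_real hj ?_ (hjx.pow_left _) hl hjl ?_)
    · rwa [← pow_mul, ← pow_succ]
    · rw [← conj_pow, hc, inv_pow]

/-- A `3`-subgroup normalised by commuting involutions, one of them fixed-point-free, is trivial. -/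
theorem Setup.eq_bot_of_pair {D : Subgroup G} (hD : IsPGroup 3 D) {a s : G} (ha : orderOf a = 2)
    (hs : orderOf s = 2) (hne : a ≠ s) (hc : Commute a s) (hDa : a ∈ normalizer (D : Set G))
    (hDs : s ∈ normalizer (D : Set G)) (hfix : ∀ x ∈ D, Commute x a → x = 1) : D = ⊥ := by
  have haa := Involution.mul_self ha
  have hss := Involution.mul_self hs
  have fixed : ∀ {r x : G}, r * x * r⁻¹ = x → Commute x r := fun hx =>
    (mul_inv_eq_iff_eq_mul.1 hx).symm
  have hinvA := (GWKlein.inverts_of_fpf ha hDa fun x hx hf => hfix x hx (fixed hf)).1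
  have hinvS := (GWKlein.inverts_of_fpf hs hDs fun x hx hf => by
    obtain ⟨k, hk⟩ := hD ⟨x, hx⟩
    exact h.not_real_pow hs (congrArg Subtype.val hk) (fixed hf) haa hc (hinvA x hx)).1
  have has : orderOf (a * s) = 2 := by
    refine orderOf_eq_prime ?_ fun e => hne ?_
    · rw [hc.mul_pow, pow_two, pow_two, haa, hss, one_mul]
    · rw [mul_eq_one_iff_eq_inv] at e
      rw [e, inv_eq_of_mul_eq_one_right hss]
  refine (Subgroup.eq_bot_iff_forall _).2 fun x hx => ?_
  obtain ⟨k, hk⟩ := hD ⟨x, hx⟩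
  refine h.not_real_pow has (congrArg Subtype.val hk) (fixed ?_) haa
    ((Commute.refl a).mul_right hc) (hinvA x hx)
  rw [show a * s * x * (a * s)⁻¹ = a * (s * x * s⁻¹) * a⁻¹ by group, hinvS x hx,
    hinvA _ (inv_mem hx), inv_inv]

/-- An invariant `3`-subgroup meets `C(t)` in `U`. -/
theorem Setup.inf_cent {P : Subgroup G} (hUP : U ≤ P) (hP : IsPGroup 3 P) :
    P ⊓ centralizer ({t} : Set G) = U := by
  haveI : Fact (Nat.Prime 3) := ⟨Nat.prime_three⟩
  set W := P ⊓ centralizer ({t} : Set G)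
  have hW : IsPGroup 3 W := hP.to_le inf_le_left
  have hUW : U ≤ W := le_inf hUP fun x hx =>
    mem_centralizer_singleton_iff.2 (h.comm_L (h.borel.le (h.borel.leU hx))).eq
  have hWL : W ≤ L := fun x hx => by
    refine h.lfac.ctx.mem_of_odd (mem_centralizer_singleton_iff.1 hx.2) ?_
    obtain ⟨k, hk⟩ := hW ⟨x, hx⟩
    exact ((Nat.odd_iff.2 (by norm_num : 3 % 2 = 1)).pow).of_dvd_nat
      (orderOf_dvd_of_pow_eq_one (congrArg Subtype.val hk))
  obtain ⟨k, hk⟩ := IsPGroup.iff_card.1 hW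
  have hd : Nat.card W ∣ 3 ^ n * ((3 ^ n + 1) * (3 ^ n - 1)) := by
    rw [← h.cardF, ← h.lfac.card_L]
    exact (card_dvd_of_le hWL).mul_left 2
  have h3 : 3 ∣ 3 ^ n := dvd_pow_self 3 (by have := h.n_pos; omega)
  have hcop : (Nat.card W).Coprime ((3 ^ n + 1) * (3 ^ n - 1)) := by
    rw [hk]
    refine Nat.Coprime.pow_left k ((Nat.Prime.coprime_iff_not_dvd Nat.prime_three).2 fun hd' => ?_)
    have h4 := Nat.one_le_pow n 3 (by norm_num)
    rcases Nat.prime_three.dvd_mul.1 hd' with h' | h' <;> omega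
  exact (eq_of_le_of_card_ge hUW (h.borel.cardU ▸
    Nat.le_of_dvd (pow_pos three_pos n) (hcop.dvd_of_dvd_mul_right hd))).symm

theorem Setup.normalizer_cent {P : Subgroup G} (hUP : U ≤ P) (hP : IsPGroup 3 P) {c : G}
    (hN : c ∈ normalizer (P : Set G)) (hc : Commute c t) : c ∈ zpowers t ⊔ B := by
  refine h.mem_Bt hc fun x hx => (h.inf_cent hUP hP).le ⟨(mem_normalizer_iff.1 hN x).1 (hUP hx), ?_⟩
  have hxt := h.comm_L (h.borel.le (h.borel.leU hx))
  exact mem_centralizer_singleton_iff.2 ((hc.mul_left hxt).mul_left hc.inv_left).eq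

/-- The normaliser of an invariant `3`-subgroup has Sylow 2-subgroups of order two. -/
theorem Setup.not_four {P : Subgroup G} (hUP : U ≤ P) (hP : IsPGroup 3 P)
    (ht : t ∈ normalizer (P : Set G)) : ¬ 4 ∣ Nat.card (normalizer (P : Set G)) := by
  intro h4
  haveI : Fact (Nat.Prime 2) := ⟨Nat.prime_two⟩
  set X := normalizer (P : Set G)
  set τ : X := ⟨t, ht⟩
  obtain ⟨Q, hQ⟩ := (IsPGroup.of_card (G := zpowers τ) (p := 2) (n := 1) (by
    rw [Nat.card_zpowers, ← orderOf_coe, h.lfac.data.invol, pow_one])).exists_le_sylow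
  obtain ⟨R, hR⟩ := (Q.2.map X.subtype).exists_le_sylow
  have hsub : (Q : Subgroup X) ≤ zpowers τ := by
    intro z hz
    have hzR : (z : G) ∈ (R : Subgroup G) := hR (mem_map_of_mem X.subtype hz)
    have htR : t ∈ (R : Subgroup G) := hR (mem_map_of_mem X.subtype (hQ (mem_zpowers τ)))
    rcases h.invol_Bt (h.normalizer_cent hUP hP z.2 (sylow_comm h.lfac.data R z hzR t htR))
      (by rw [← pow_two]; exact (h.lfac.data.sylow R).1.2 z hzR) with e | e
    · rw [show z = 1 from Subtype.ext e]; exact one_mem _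
    · rw [show z = τ from Subtype.ext e]; exact mem_zpowers τ
  have h1 := Subgroup.card_le_of_le hsub
  rw [Nat.card_zpowers, ← orderOf_coe, h.lfac.data.invol] at h1
  have h2 := Q.pow_dvd_card_of_pow_dvd_card (n := 2) (by norm_num; exact h4)
  have := Nat.le_of_dvd Nat.card_pos h2
  norm_num at this
  omega

end Cfsg.Agent.AbelianSylow.TwoTrans
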